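import Mathlib

/-!
The largest prime divisor `r` of a binomial coefficient `m.choose k` (`2k ≤ m`) sees a carry in the last digit.
-/

set_option autoImplicit false

namespace CfsgLib.AltDerange

open Nat Finset

theorem choose_mono_left_half {m t : ℕ} : ∀ k, t ≤ k → 2 * k ≤ m → m.choose t ≤ m.choose k := by
  intro k htk
  induction k, htk using Nat.le_induction with
  | base => exact fun _ => le_rfl
  | succ k _ ih =>
    intro h
    exact (ih (by omega)).trans (Nat.choose_le_succ_of_lt_half_left (by omega))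

/-- `(m / t) ^ t ≤ C(m, t)`, without division, and strict for `t ≥ 2`. -/
theorem choose_lower : ∀ {t m : ℕ}, t ≤ m → m ^ t ≤ m.choose t * t ^ t
  | 0, m, _ => by simp
  | t + 1, m + 1, h => by
    have ih := choose_lower (t := t) (m := m) (by omega)
    have h1 : (m + 1).choose (t + 1) * (t + 1) = (m + 1) * m.choose t := (Nat.add_one_mul_choose_eq m t).symm
    have key : (m + 1) ^ t ≤ m.choose t * (t + 1) ^ t := by
      rcases Nat.eq_zero_or_pos t with rfl | ht
      · simp
      refine Nat.le_of_mul_le_mul_right (c := t ^ t) ?_ (Nat.pow_pos ht)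
      calc (m + 1) ^ t * t ^ t = ((m + 1) * t) ^ t := (mul_pow _ _ _).symm
        _ ≤ (m * (t + 1)) ^ t := Nat.pow_le_pow_left (by nlinarith) t
        _ = m ^ t * (t + 1) ^ t := mul_pow _ _ _
        _ ≤ m.choose t * t ^ t * (t + 1) ^ t := Nat.mul_le_mul_right _ ih
        _ = _ := by ring
    calc (m + 1) ^ (t + 1) = (m + 1) * (m + 1) ^ t := by ring
      _ ≤ (m + 1) * (m.choose t * (t + 1) ^ t) := Nat.mul_le_mul_left _ key
      _ = (m + 1) * m.choose t * (t + 1) ^ t := by ring
      _ = _ := by rw [← h1]; ring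

theorem choose_lower_strict {t m : ℕ} (ht : 2 ≤ t) (h : t < m) : m ^ t < m.choose t * t ^ t := by
  obtain ⟨t, rfl⟩ : ∃ s, t = s + 1 := ⟨t - 1, by omega⟩
  obtain ⟨m, rfl⟩ : ∃ s, m = s + 1 := ⟨m - 1, by omega⟩
  have ih := choose_lower (t := t) (m := m) (by omega)
  have h1 : (m + 1).choose (t + 1) * (t + 1) = (m + 1) * m.choose t := (Nat.add_one_mul_choose_eq m t).symm
  have key : (m + 1) ^ t < m.choose t * (t + 1) ^ t := by
    refine Nat.lt_of_mul_lt_mul_right (a := t ^ t) ?_
    calc (m + 1) ^ t * t ^ t = ((m + 1) * t) ^ t := (mul_pow _ _ _).symm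
      _ < (m * (t + 1)) ^ t := Nat.pow_lt_pow_left (by nlinarith) (by omega)
      _ = m ^ t * (t + 1) ^ t := mul_pow _ _ _
      _ ≤ m.choose t * t ^ t * (t + 1) ^ t := Nat.mul_le_mul_right _ ih
      _ = _ := by ring
  calc (m + 1) ^ (t + 1) = (m + 1) * (m + 1) ^ t := by ring
    _ < (m + 1) * (m.choose t * (t + 1) ^ t) := Nat.mul_lt_mul_of_pos_left key (by omega)
    _ = (m + 1) * m.choose t * (t + 1) ^ t := by ring
    _ = _ := by rw [← h1]; ring

/-- The primes up to `t`. -/
def primesTo (t : ℕ) : Finset ℕ := (Finset.range (t + 1)).filter Nat.Prime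

theorem primesTo_step {t : ℕ} (ht : 2 ≤ t) : (primesTo (t + 2)).card ≤ (primesTo t).card + 1 := by
  simp only [primesTo]
  rw [Finset.range_add_one (n := t + 2), Finset.filter_insert, Finset.range_add_one (n := t + 1),
    Finset.filter_insert]
  split_ifs with h2 h1 h1
  · exfalso
    rcases h1.eq_two_or_odd with h | h <;> rcases h2.eq_two_or_odd with h' | h' <;> omega
  · exact Finset.card_insert_le _ _
  · exact Finset.card_insert_le _ _
  · exact Nat.le_succ _

theorem primesTo_le : ∀ t, 8 ≤ t → 2 * (primesTo t).card ≤ t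
  | t, h => by
    rcases (show t = 8 ∨ t = 9 ∨ 10 ≤ t by omega) with rfl | rfl | h'
    · decide
    · decide
    · have h1 := primesTo_le (t - 2) (by omega)
      have h2 := primesTo_step (t := t - 2) (by omega)
      rw [show t - 2 + 2 = t by omega] at h2
      omega

/-- The check for the small cases. -/
def check (m k : ℕ) : Bool :=
  k == 0 || decide (m < 2 * k) ||
    [2, 3, 5, 7, 11, 13, 17, 19, 23, 29, 31, 37, 41, 43, 47, 53, 59, 61, 67, 71, 73, 79, 83, 89].any
      fun p => (decide (k < p) || decide (m < p * p)) && decide (m % p < k % p)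

theorem check_all : ((List.range 94).all fun m => (List.range 48).all fun k => check m k) = true := by
  decide +kernel

theorem small_cases (m : ℕ) (hm : m < 94) (k : ℕ) (hk : k < 48) (hk1 : 1 ≤ k) (h2k : 2 * k ≤ m) :
    ∃ p ∈ ([2, 3, 5, 7, 11, 13, 17, 19, 23, 29, 31, 37, 41, 43, 47, 53, 59, 61, 67, 71, 73, 79, 83, 89] : List ℕ),
      (k < p ∨ m < p * p) ∧ m % p < k % p := by
  have h := check_all
  rw [List.all_eq_true] at h
  have h2 := h m (List.mem_range.mpr hm)
  rw [List.all_eq_true] at h2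
  have h3 := h2 k (List.mem_range.mpr hk)
  simp only [check, Bool.or_eq_true, beq_iff_eq, decide_eq_true_eq] at h3
  rcases h3 with (h3 | h3) | h3
  · omega
  · omega
  · obtain ⟨p, hp, h4⟩ := List.any_eq_true.mp h3
    simp only [Bool.and_eq_true, Bool.or_eq_true, decide_eq_true_eq] at h4
    exact ⟨p, hp, h4⟩

/-- The bound on the primes of a binomial coefficient that are all at most `t`. -/
theorem choose_le_pow {m k t : ℕ} (hm : 0 < m) (hkm : k ≤ m)
    (h : ∀ p : ℕ, p.Prime → p ∣ m.choose k → p ≤ t) : m.choose k ≤ m ^ (primesTo t).card := by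
  have hC := Nat.choose_pos hkm
  calc m.choose k = (m.choose k).factorization.prod fun p e => p ^ e :=
        (Nat.prod_factorization_pow_eq_self hC.ne').symm
    _ ≤ ∏ _p ∈ (m.choose k).factorization.support, m :=
        Finset.prod_le_prod' fun p _ => Nat.pow_factorization_choose_le hm
    _ = m ^ (m.choose k).factorization.support.card := Finset.prod_const m
    _ ≤ _ := Nat.pow_le_pow_right hm (Finset.card_le_card fun p hp => by
        rw [Nat.support_factorization, Nat.mem_primeFactors] at hp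
        exact Finset.mem_filter.mpr ⟨Finset.mem_range.mpr (Nat.lt_succ_of_le (h p hp.1 hp.2.1)), hp.1⟩)

/-- A weak form of Sylvester's theorem. -/
theorem exists_big_prime {m k : ℕ} (hk : 1 ≤ k) (h2k : 2 * k ≤ m) :
    ∃ p : ℕ, p.Prime ∧ p ∣ m.choose k ∧ (k < p ∨ m < p * p) := by
  rcases Nat.lt_or_ge m 94 with hm | hm
  · obtain ⟨p, hp, hbig, hdig⟩ := small_cases m hm k (by omega) hk h2k
    have hpp : p.Prime := by
      simp only [List.mem_cons, List.not_mem_nil, or_false] at hp
      rcases hp with rfl | rfl | rfl | rfl | rfl | rfl | rfl | rfl | rfl | rfl | rfl | rfl | rfl | rfl | rfl |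
        rfl | rfl | rfl | rfl | rfl | rfl | rfl | rfl | rfl <;> norm_num
    haveI : Fact p.Prime := ⟨hpp⟩
    refine ⟨p, hpp, ?_, hbig⟩
    have := Choose.choose_modEq_choose_mod_mul_choose_div_nat (n := m) (k := k) (p := p)
    rw [Nat.choose_eq_zero_of_lt hdig, zero_mul] at this
    exact (Nat.modEq_zero_iff_dvd).mp this
  by_contra hc
  push Not at hc
  set t := min k m.sqrt with ht
  have htp : ∀ p : ℕ, p.Prime → p ∣ m.choose k → p ≤ t := fun p hp hd =>
    le_min (hc p hp hd).1 (Nat.le_sqrt.mpr (hc p hp hd).2)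
  have hC := choose_le_pow (by omega) (by omega) htp
  have hs9 : 9 ≤ m.sqrt := Nat.le_sqrt.mpr (by omega)
  have htm : t * t ≤ m := le_trans (Nat.mul_le_mul (min_le_right _ _) (min_le_right _ _)) (Nat.sqrt_le m)
  have ht2 : 2 ≤ t := by
    obtain ⟨p, hp, hd⟩ := Nat.exists_prime_and_dvd (n := m.choose k) (by
      have := choose_mono_left_half k hk h2k
      rw [Nat.choose_one_right] at this
      omega)
    exact hp.two_le.trans (htp p hp hd)
  have hlow := choose_lower_strict ht2 (show t < m by nlinarith)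
  have hmono : m.choose t ≤ m.choose k := choose_mono_left_half k (min_le_left _ _) h2k
  have hlt : m ^ t < m ^ (primesTo t).card * t ^ t :=
    hlow.trans_le (Nat.mul_le_mul_right _ (hmono.trans hC))
  rcases Nat.lt_or_ge t 8 with ht8 | ht8
  · have hcard : (primesTo t).card ≤ 4 ∧ 2 * (primesTo t).card ≤ t + 1 ∧ (t = 2 → (primesTo t).card = 1) := by
      obtain ⟨t', ht'⟩ : ∃ t', t' = t := ⟨t, rfl⟩
      rw [← ht']
      have : t' ≤ 7 := by omega
      have : 2 ≤ t' := by omega
      interval_cases t' <;> decide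
    interval_cases t
    · rw [hcard.2.2 rfl] at hlt; nlinarith
    · have := Nat.pow_le_pow_right (show 1 ≤ m by omega) (show (primesTo 3).card ≤ 2 by omega)
      have h1 : m ^ 3 < m ^ 2 * 3 ^ 3 := hlt.trans_le (Nat.mul_le_mul_right _ this)
      nlinarith
    · have := Nat.pow_le_pow_right (show 1 ≤ m by omega) (show (primesTo 4).card ≤ 2 by omega)
      have h1 : m ^ 4 < m ^ 2 * 4 ^ 4 := hlt.trans_le (Nat.mul_le_mul_right _ this)
      have : m ^ 2 * 256 ≤ m ^ 2 * (m * m) := Nat.mul_le_mul_left _ (by nlinarith)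
      have : m ^ 4 = m ^ 2 * (m * m) := by ring
      omega
    · have := Nat.pow_le_pow_right (show 1 ≤ m by omega) (show (primesTo 5).card ≤ 3 by omega)
      have h1 : m ^ 5 < m ^ 3 * 5 ^ 5 := hlt.trans_le (Nat.mul_le_mul_right _ this)
      have : m ^ 3 * 3125 ≤ m ^ 3 * (m * m) := Nat.mul_le_mul_left _ (by nlinarith)
      have : m ^ 5 = m ^ 3 * (m * m) := by ring
      omega
    · have := Nat.pow_le_pow_right (show 1 ≤ m by omega) (show (primesTo 6).card ≤ 3 by omega)
      have h1 : m ^ 6 < m ^ 3 * 6 ^ 6 := hlt.trans_le (Nat.mul_le_mul_right _ this)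
      have : m ^ 3 * 46656 ≤ m ^ 3 * (m * m * m) := Nat.mul_le_mul_left _
        (le_trans (by norm_num : 46656 ≤ 94 * 94 * 94) (Nat.mul_le_mul (Nat.mul_le_mul hm hm) hm))
      have : m ^ 6 = m ^ 3 * (m * m * m) := by ring
      omega
    · have := Nat.pow_le_pow_right (show 1 ≤ m by omega) (show (primesTo 7).card ≤ 4 by omega)
      have h1 : m ^ 7 < m ^ 4 * 7 ^ 7 := hlt.trans_le (Nat.mul_le_mul_right _ this)
      have : m ^ 4 * 823543 ≤ m ^ 4 * (m * m * m) := Nat.mul_le_mul_left _
        (le_trans (by norm_num : 823543 ≤ 94 * 94 * 94) (Nat.mul_le_mul (Nat.mul_le_mul hm hm) hm))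
      have : m ^ 7 = m ^ 4 * (m * m * m) := by ring
      omega
  · have hp := primesTo_le t ht8
    have h2 : (m ^ t) ^ 2 < (m ^ (primesTo t).card * t ^ t) ^ 2 := Nat.pow_lt_pow_left hlt (by norm_num)
    have h3 : (m ^ (primesTo t).card * t ^ t) ^ 2 ≤ m ^ t * m ^ t := by
      rw [mul_pow, ← pow_mul, ← pow_mul]
      refine Nat.mul_le_mul (Nat.pow_le_pow_right (by omega) (by omega)) ?_
      rw [mul_comm t 2, pow_mul, pow_two]
      exact Nat.pow_le_pow_left htm t
    rw [pow_two] at h2
    omega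

/-- The largest prime of a binomial coefficient. -/
theorem max_prime_choose {m k r : ℕ} (hk : 1 ≤ k) (h2k : 2 * k ≤ m) (hr : r.Prime) (hrd : r ∣ m.choose k)
    (hmax : ∀ p : ℕ, p.Prime → p ∣ m.choose k → p ≤ r) : m % r < k % r := by
  by_contra hlt
  push Not at hlt
  haveI : Fact r.Prime := ⟨hr⟩
  have h := Choose.choose_modEq_choose_mod_mul_choose_div_nat (n := m) (k := k) (p := r)
  have hd : r ∣ (m % r).choose (k % r) * (m / r).choose (k / r) := by
    rw [← Nat.modEq_zero_iff_dvd] at hrd ⊢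
    exact h.symm.trans hrd
  have h1 : ¬ r ∣ (m % r).choose (k % r) := fun hdv => by
    have := Nat.mod_lt m hr.pos
    have hf : r ∣ (m % r)! := hdv.trans
      (Dvd.intro ((k % r)! * (m % r - k % r)!) (by rw [← mul_assoc]; exact Nat.choose_mul_factorial_mul_factorial hlt))
    have := hr.dvd_factorial.mp hf
    omega
  have h2 := (hr.dvd_mul.mp hd).resolve_left h1
  have hk0 : k / r ≠ 0 := fun e => by rw [e, Nat.choose_zero_right] at h2; exact hr.not_dvd_one h2
  have hkr : r ≤ k := by
    by_contra hn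
    exact hk0 (Nat.div_eq_of_lt (by omega))
  have ha : r ≤ m / r := by
    have hle : k / r ≤ m / r := Nat.div_le_div_right (by omega)
    exact hr.dvd_factorial.mp (h2.trans
      (Dvd.intro ((k / r)! * (m / r - k / r)!) (by rw [← mul_assoc]; exact Nat.choose_mul_factorial_mul_factorial hle)))
  have hrm : r * r ≤ m := le_trans (Nat.mul_le_mul_left r ha) (Nat.mul_div_le m r)
  obtain ⟨p, hp, hpd, hp'⟩ := exists_big_prime hk h2k
  have hpr := hmax p hp hpd
  have := Nat.mul_le_mul hpr hpr
  omega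

end CfsgLib.AltDerange
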