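import Cfsg.Agent.Lib.AltDerange.Binom
import Cfsg.Agent.S0713
import Cfsg.Agent.S2119

/-!
Primitive groups with alternating socle have a derangement of order the largest prime divisor of the degree.
-/

set_option autoImplicit false
set_option linter.unusedSectionVars false

namespace CfsgLib.AltDerange

open Equiv.Perm MulAction
open scoped Pointwise

section Alt

variable {m : ℕ}

/-- An even permutation of order `r` made of `a` cycles of length `r`. -/
theorem exists_elem {a r : ℕ} (hr : r.Prime) (ha : 1 ≤ a) (har : a * r ≤ m) (heven : Odd r ∨ Even a) :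
    ∃ x : Equiv.Perm (Fin m), x ∈ alternatingGroup (Fin m) ∧ orderOf x = r ∧
      x.cycleType = Multiset.replicate a r := by
  classical
  obtain ⟨x, hx⟩ := (Equiv.Perm.exists_with_cycleType_iff (Fin m) (m := Multiset.replicate a r)).mpr
    ⟨by rw [Multiset.sum_replicate, Fintype.card_fin, smul_eq_mul]; exact har,
      fun b hb => by rw [Multiset.eq_of_mem_replicate hb]; exact hr.two_le⟩
  have hord : orderOf x = r := by
    rw [← lcm_cycleType, hx]
    refine Nat.dvd_antisymm (Multiset.lcm_dvd.mpr fun b hb => (Multiset.eq_of_mem_replicate hb).dvd) ?_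
    exact Multiset.dvd_lcm (Multiset.mem_replicate.mpr ⟨by omega, rfl⟩)
  refine ⟨x, ?_, hord, hx⟩
  rw [mem_alternatingGroup, sign_of_cycleType, hx, Multiset.sum_replicate, Multiset.card_replicate, smul_eq_mul]
  apply Even.neg_one_pow
  rcases heven with h | h
  · rw [Nat.even_add, Nat.even_mul]
    simp [Nat.not_even_iff_odd.mpr h]
  · exact Nat.even_add.mpr ⟨fun _ => h, fun _ => h.mul_right r⟩

theorem support_elem {a r : ℕ} {x : Equiv.Perm (Fin m)} (hx : x.cycleType = Multiset.replicate a r) :
    x.support.card = a * r := by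
  rw [← sum_cycleType, hx, Multiset.sum_replicate, smul_eq_mul]

theorem cycleType_conj' (σ x : Equiv.Perm (Fin m)) : (σ * x * σ⁻¹).cycleType = x.cycleType := cycleType_conj

/-- An element with `a` cycles of length `r` stabilizes no set of size `k`. -/
theorem no_invariant {a r : ℕ} (hr : r.Prime) {y : Equiv.Perm (Fin m)}
    (hy : y.cycleType = Multiset.replicate a r) (hord : orderOf y = r) (S : Finset (Fin m))
    (hS : ∀ i ∈ S, y i ∈ S) (hc : m - a * r < S.card % r) : False := by
  classical
  haveI : Fact r.Prime := ⟨hr⟩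
  let T : SubMulAction (Subgroup.zpowers y) (Fin m) :=
    { carrier := (S : Set (Fin m))
      smul_mem' := fun g i hi => by
        obtain ⟨n, -, hn⟩ := Finset.mem_image.mp (mem_zpowers_iff_mem_range_orderOf.mp g.2)
        show (g.1 : Equiv.Perm (Fin m)) i ∈ S
        rw [← hn]
        clear hn
        induction n with
        | zero => exact hi
        | succ n ih => rw [pow_succ', Equiv.Perm.mul_apply]; exact hS _ ih }
  have hP : IsPGroup r (Subgroup.zpowers y) := IsPGroup.of_card (n := 1) (by rw [Nat.card_zpowers, hord, pow_one])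
  have h := hP.card_modEq_card_fixedPoints T
  have h1 : Nat.card T = S.card := by
    rw [← Nat.card_eq_finsetCard S]
    exact Nat.card_congr (Equiv.refl _)
  have h2 : Nat.card (fixedPoints (Subgroup.zpowers y) T) ≤ m - a * r := by
    let f : fixedPoints (Subgroup.zpowers y) T → {i : Fin m // i ∉ y.support} := fun i => ⟨i.1.1, by
      rw [notMem_support]
      exact congrArg Subtype.val (i.2 ⟨y, Subgroup.mem_zpowers y⟩)⟩
    have hf : Function.Injective f := fun i j hij =>
      Subtype.ext (Subtype.ext (congrArg (fun z : {i : Fin m // i ∉ y.support} => (z : Fin m)) hij))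
    refine (Nat.card_le_card_of_injective f hf).trans (le_of_eq ?_)
    rw [Nat.card_eq_fintype_card, Fintype.card_subtype_compl, Fintype.card_coe, Fintype.card_fin, support_elem hy]
  rw [Nat.ModEq, h1] at h
  have := Nat.mod_le (Nat.card (fixedPoints (Subgroup.zpowers y) T)) r
  omega

theorem not_sq_dvd_factorial {r : ℕ} (hr : r.Prime) : ∀ {n : ℕ}, n < 2 * r → ¬ r * r ∣ n.factorial
  | 0, _, h => by
    rw [Nat.factorial_zero, Nat.dvd_one] at h
    have := hr.two_le
    nlinarith
  | n + 1, hn, h => by
    rw [Nat.factorial_succ] at h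
    by_cases hd : r ∣ n + 1
    · obtain ⟨c, hc⟩ := hd
      have hc1 : c = 1 := by
        rcases c with _ | _ | c
        · simp at hc
        · rfl
        · nlinarith
      rw [hc, hc1, mul_one] at h
      have h' : r ∣ n.factorial := (Nat.mul_dvd_mul_iff_left hr.pos).mp h
      have := hr.dvd_factorial.mp h'
      rw [hc1, mul_one] at hc
      omega
    · exact not_sq_dvd_factorial hr (by omega) (((hr.coprime_iff_not_dvd.mpr hd).mul_left
        (hr.coprime_iff_not_dvd.mpr hd)).dvd_of_dvd_mul_left h)

/-- Bertrand: a prime in `(m / 2, m]`. -/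
theorem exists_prime_top (hm : 2 ≤ m) : ∃ p : ℕ, p.Prime ∧ m < 2 * p ∧ p ≤ m := by
  obtain ⟨p, hp, h1, h2⟩ := Nat.exists_prime_lt_and_le_two_mul (m / 2) (by omega)
  exact ⟨p, hp, by omega, by omega⟩

/-- An element of large prime order fixes every point of a small orbit. -/
theorem small_fixed {X : Type*} [Finite X] {p : ℕ} [Fact p.Prime] {P : Type*} [Group P]
    (hP : IsPGroup p P) [MulAction P X] (T : SubMulAction P X) (hT : Nat.card T < p) :
    ∀ (g : P) (x : X), x ∈ T → g • x = x := by
  intro g x hx
  have h := hP.card_modEq_card_fixedPoints T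
  have hle : Nat.card (fixedPoints P T) ≤ Nat.card T := Nat.card_le_card_of_injective _ Subtype.val_injective
  rw [Nat.ModEq, Nat.mod_eq_of_lt hT, Nat.mod_eq_of_lt (lt_of_le_of_lt hle hT)] at h
  have hall : fixedPoints P T = Set.univ := by
    rw [Set.eq_univ_iff_ncard, ← Nat.card_coe_set_eq]; exact h.symm
  exact congrArg Subtype.val ((Set.eq_univ_iff_forall.mp hall) ⟨x, hx⟩ g)

variable {G : Type*} [Group G] [Finite G]

/-- The core: a maximal subgroup of `S_m` or `A_m` off the socle misses a whole class of elements of order `r`. -/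
theorem exists_missed (hm : 5 ≤ m) (φ : G →* Equiv.Perm (Fin m)) (hφ : Function.Injective φ)
    (hA : alternatingGroup (Fin m) ≤ φ.range) (H : Subgroup G) (hH : IsCoatom H)
    (hAH : ¬ alternatingGroup (Fin m) ≤ H.map φ) {r : ℕ} (hr : r.Prime) (hrd : r ∣ H.index)
    (hmax : ∀ s : ℕ, s.Prime → s ∣ H.index → s ≤ r) :
    ∃ x ∈ alternatingGroup (Fin m), orderOf x = r ∧ ∀ σ : Equiv.Perm (Fin m), σ * x * σ⁻¹ ∉ H.map φ := by
  classical
  haveI : Fact r.Prime := ⟨hr⟩
  have hGm : Nat.card G ∣ m.factorial := by
    have := Subgroup.card_dvd_of_injective φ hφ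
    rwa [Nat.card_perm, Nat.card_fin] at this
  have hrle : r ≤ m := hr.dvd_factorial.mp ((hrd.trans H.index_dvd_card).trans hGm)
  set H' := H.map φ with hH'
  have hcardH : Nat.card H' = Nat.card H := Subgroup.card_map_of_injective hφ
  rcases Nat.lt_or_ge m (2 * r) with hbig | hsmall
  · -- `r` divides the order of `G` once
    obtain ⟨x, hxA, hxr, hxc⟩ := exists_elem (m := m) (a := 1) hr le_rfl (by omega) (Or.inl (by
      rcases hr.eq_two_or_odd' with h | h
      · omega
      · exact h))
    refine ⟨x, hxA, hxr, fun σ hσ => ?_⟩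
    have h1 : r ∣ Nat.card H := by
      rw [← hcardH]
      have h := Subgroup.orderOf_dvd_natCard H' hσ
      rwa [← MulAut.conj_apply σ x, MulEquiv.orderOf_eq, hxr] at h
    refine not_sq_dvd_factorial hr hbig (dvd_trans ?_ hGm)
    rw [← H.card_mul_index]
    exact Nat.mul_dvd_mul h1 hrd
  have hA' : ∀ x ∈ alternatingGroup (Fin m), ∃ g : G, φ g = x := fun x hx => hA hx
  by_cases htr : ∀ i j : Fin m, ∃ h ∈ H, φ h i = j
  swap
  · -- intransitive: the stabilizer of a set
    push Not at htr
    obtain ⟨i, j, hij⟩ := htr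
    obtain ⟨S, hSne, hS2, hSinv⟩ : ∃ S : Finset (Fin m), 1 ≤ S.card ∧ 2 * S.card ≤ m ∧
        ∀ h ∈ H, ∀ z ∈ S, φ h z ∈ S := by
      let O : Finset (Fin m) := Finset.univ.filter fun z => ∃ h ∈ H, φ h i = z
      have hOinv : ∀ h ∈ H, ∀ z ∈ O, φ h z ∈ O := by
        intro h hh z hz
        obtain ⟨h', hh', rfl⟩ := (Finset.mem_filter.mp hz).2
        exact Finset.mem_filter.mpr ⟨Finset.mem_univ _, h * h', mul_mem hh hh', by rw [map_mul, Equiv.Perm.mul_apply]⟩
      have hi : i ∈ O := Finset.mem_filter.mpr ⟨Finset.mem_univ _, 1, one_mem _, by rw [map_one, Equiv.Perm.one_apply]⟩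
      have hj : j ∉ O := fun hc => by
        obtain ⟨h, hh, e⟩ := (Finset.mem_filter.mp hc).2
        exact hij h hh e
      by_cases hO : 2 * O.card ≤ m
      · exact ⟨O, Finset.card_pos.mpr ⟨i, hi⟩, hO, hOinv⟩
      · refine ⟨Oᶜ, Finset.card_pos.mpr ⟨j, Finset.mem_compl.mpr hj⟩, ?_, fun h hh z hz => ?_⟩
        · rw [Finset.card_compl, Fintype.card_fin]; omega
        · rw [Finset.mem_compl] at hz ⊢
          intro hc
          have := hOinv h⁻¹ (inv_mem hh) _ hc
          rw [← Equiv.Perm.mul_apply, ← map_mul, inv_mul_cancel, map_one, Equiv.Perm.one_apply] at this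
          exact hz this
    set k := S.card with hk
    letI act : MulAction G (Set.powersetCard (Fin m) k) := MulAction.compHom _ φ
    let s0 : Set.powersetCard (Fin m) k := Set.powersetCard.ofCard hk.symm
    have htrans : IsPretransitive G (Set.powersetCard (Fin m) k) := by
      rw [isPretransitive_iff_base s0]
      intro t
      obtain ⟨σ, hσ⟩ : ∃ σ : Equiv.Perm (Fin m), S.image σ = (t : Finset (Fin m)) := by
        have e : {z // z ∈ S} ≃ {z // z ∈ (t : Finset (Fin m))} :=
          Fintype.equivOfCardEq (by rw [Fintype.card_coe, Fintype.card_coe, Set.powersetCard.card_eq t])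
        refine ⟨e.extendSubtype, Finset.eq_of_subset_of_card_le (fun z hz => ?_) ?_⟩
        · obtain ⟨w, hw, rfl⟩ := Finset.mem_image.mp hz
          exact e.extendSubtype_mem w hw
        · rw [Finset.card_image_of_injective _ e.extendSubtype.injective, Set.powersetCard.card_eq t]
      obtain ⟨σ', hσA, hσ'⟩ : ∃ σ' ∈ alternatingGroup (Fin m), S.image σ' = (t : Finset (Fin m)) := by
        rcases Int.units_eq_one_or (sign σ) with h | h
        · exact ⟨σ, mem_alternatingGroup.mpr h, hσ⟩
        · obtain ⟨u, hu, v, hv, huv⟩ := Finset.one_lt_card.mp (show 1 < Sᶜ.card by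
            rw [Finset.card_compl, Fintype.card_fin]; omega)
          refine ⟨σ * Equiv.swap u v, mem_alternatingGroup.mpr (by rw [map_mul, h, sign_swap huv]; rfl), ?_⟩
          rw [← hσ]
          refine Finset.image_congr fun z hz => ?_
          rw [Finset.mem_compl] at hu hv
          rw [Equiv.Perm.mul_apply, Equiv.swap_apply_of_ne_of_ne (fun e => hu (by rw [← e]; exact hz))
            (fun e => hv (by rw [← e]; exact hz))]
      obtain ⟨g, rfl⟩ := hA' σ' hσA
      exact ⟨g, Subtype.ext hσ'⟩
    have hle : H ≤ stabilizer G s0 := fun h hh => by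
      refine Subtype.ext (Finset.eq_of_subset_of_card_le (fun z hz => ?_) ?_)
      · obtain ⟨w, hw, rfl⟩ := Finset.mem_image.mp hz
        exact hSinv h hh w hw
      · exact (Finset.card_image_of_injective _ (φ h).injective).ge
    have hne : stabilizer G s0 ≠ ⊤ := fun htop => by
      have hcard := index_stabilizer_of_transitive G s0
      rw [htop, Subgroup.index_top, Set.powersetCard.card, Nat.card_fin] at hcard
      have := choose_mono_left_half k hSne hS2
      rw [Nat.choose_one_right] at this
      omega
    have heq : H = stabilizer G s0 := (hH.le_iff.mp hle).resolve_left hne |>.symm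
    have hidx : H.index = m.choose k := by
      rw [heq, index_stabilizer_of_transitive G s0, Set.powersetCard.card, Nat.card_fin]
    rw [hidx] at hrd hmax
    have hdig := max_prime_choose hSne hS2 hr hrd hmax
    have heven : Odd r ∨ Even (m / r) := by
      rcases hr.eq_two_or_odd' with h | h
      · right
        subst h
        have hk1 : k = 1 := by
          by_contra hk1
          obtain ⟨p, hp, hpd, hp'⟩ := exists_big_prime hSne hS2
          have := hmax p hp hpd
          have := hp.two_le
          rcases hp' with h | h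
          · omega
          · nlinarith
        rw [hk1, Nat.choose_one_right] at hmax
        by_contra hodd
        obtain ⟨p, hp, hpd⟩ := Nat.exists_prime_and_dvd (n := m / 2) (by omega)
        have hp2 := hmax p hp (hpd.trans ⟨2, by omega⟩)
        rw [show p = 2 from le_antisymm hp2 hp.two_le] at hpd
        exact hodd (even_iff_two_dvd.mpr hpd)
      · exact Or.inl h
    obtain ⟨x, hxA, hxr, hxc⟩ := exists_elem (m := m) (a := m / r) hr
      ((Nat.one_le_div_iff hr.pos).mpr hrle) (Nat.div_mul_le_self m r) heven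
    refine ⟨x, hxA, hxr, fun σ hσ => ?_⟩
    obtain ⟨h, hh, he⟩ := hσ
    refine no_invariant hr (y := σ * x * σ⁻¹) (by rw [cycleType_conj', hxc])
      (by rw [← MulAut.conj_apply σ x, MulEquiv.orderOf_eq, hxr]) S (fun z hz => ?_) ?_
    · rw [← he]; exact hSinv h hh z hz
    · have := Nat.div_add_mod' m r
      rw [← hk]
      omega
  -- transitive
  haveI htrans : IsPretransitive H' (Fin m) := ⟨fun i j => by
    obtain ⟨h, hh, e⟩ := htr i j
    exact ⟨⟨φ h, h, hh, rfl⟩, e⟩⟩
  by_cases hprim : IsPreprimitive H' (Fin m)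
  · -- primitive: Jordan
    rcases hr.eq_two_or_odd' with h2 | hodd
    · exfalso
      subst h2
      haveI : Fact (Nat.Prime 3) := ⟨Nat.prime_three⟩
      obtain ⟨x, hxA, hx3, hxc⟩ := exists_elem (m := m) (a := 1) Nat.prime_three le_rfl (by omega) (Or.inl (by decide))
      obtain ⟨g, rfl⟩ := hA' x hxA
      obtain ⟨P⟩ := (inferInstance : Nonempty (Sylow 3 H))
      have hPG : ¬ 3 ∣ ((P : Subgroup H).map H.subtype).index := by
        rw [Subgroup.index_map_subtype]
        exact fun hd => ((Nat.Prime.dvd_mul Nat.prime_three).mp hd).elim P.not_dvd_index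
          (fun h3 => absurd (hmax 3 Nat.prime_three h3) (by norm_num))
      let Q : Sylow 3 G := (P.isPGroup'.map H.subtype).toSylow hPG
      have hg3 : IsPGroup 3 (Subgroup.zpowers g) := by
        refine IsPGroup.of_card (n := 1) ?_
        rw [Nat.card_zpowers, ← orderOf_injective φ hφ, hx3, pow_one]
      obtain ⟨R, hR⟩ := hg3.exists_le_sylow
      obtain ⟨u, hu⟩ := MulAction.exists_smul_eq G R Q
      have hmem : MulAut.conj u g ∈ H := by
        have h1 : MulAut.conj u g ∈ (u • R : Sylow 3 G) := by
          exact Subgroup.smul_mem_pointwise_smul g (MulAut.conj u) R.1 (hR (Subgroup.mem_zpowers g))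
        rw [hu] at h1
        exact Subgroup.map_subtype_le _ h1
      refine hAH (Equiv.Perm.alternatingGroup_le_of_isPreprimitive_of_isThreeCycle_mem hprim
        (g := φ u * φ g * (φ u)⁻¹) ?_ ⟨_, hmem, by simp [MulAut.conj_apply]⟩)
      rw [IsThreeCycle, cycleType_conj', hxc]
      rfl
    · obtain ⟨x, hxA, hxr, hxc⟩ := exists_elem (m := m) (a := 1) hr le_rfl (by omega) (Or.inl hodd)
      refine ⟨x, hxA, hxr, fun σ hσ => hAH ?_⟩
      have hc : (σ * x * σ⁻¹).cycleType = Multiset.replicate 1 r := by rw [cycleType_conj', hxc]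
      have hr3 : 3 ≤ r := by rcases hodd with ⟨c, rfl⟩; have := hr.two_le; omega
      exact Cfsg.Agent.S0713.result H' hprim hr (by rw [Fintype.card_fin]; exact hm)
        (by rw [Fintype.card_fin]; omega)
        (card_cycleType_eq_one.mp (by rw [hc, Multiset.card_replicate]))
        (by rw [support_elem hc, one_mul]) hσ
  · -- imprimitive: impossible
    exfalso
    obtain ⟨p, hp, hp2, hpm⟩ := exists_prime_top (m := m) (by omega)
    haveI : Fact p.Prime := ⟨hp⟩
    have hpH : p ∣ Nat.card H' := by
      rw [hcardH]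
      have hpG : p ∣ Nat.card G := by
        obtain ⟨x, hxA, hxp, -⟩ := exists_elem (m := m) (a := 1) hp le_rfl (by omega) (Or.inl (by
          rcases hp.eq_two_or_odd' with h | h
          · omega
          · exact h))
        obtain ⟨g, rfl⟩ := hA' x hxA
        rw [← hxp, orderOf_injective φ hφ]
        exact orderOf_dvd_natCard g
      rw [← H.card_mul_index] at hpG
      refine (hp.dvd_mul.mp hpG).resolve_right fun hd => ?_
      have := hmax p hp hd
      omega
    obtain ⟨g, hg⟩ := exists_prime_orderOf_dvd_card' p hpH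
    obtain ⟨B, hB, hBn⟩ : ∃ B : Set (Fin m), IsBlock H' B ∧ ¬ IsTrivialBlock B := by
      by_contra hc
      push Not at hc
      exact hprim { isTrivialBlock_of_isBlock := fun {B} hB => hc B hB }
    obtain ⟨hB1, hBu⟩ : 1 < B.ncard ∧ B ≠ Set.univ := by
      rw [IsTrivialBlock, not_or, ← Set.ncard_le_one_iff_subsingleton, not_le] at hBn
      exact hBn
    have hBne : B.Nonempty := Set.nonempty_of_ncard_ne_zero (by omega)
    have hmul := hB.ncard_block_mul_ncard_orbit_eq hBne
    rw [Nat.card_fin] at hmul
    have hBm : B.ncard < m := by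
      have := Set.ncard_lt_ncard (Set.ssubset_univ_iff.mpr hBu)
      rwa [Set.ncard_univ, Nat.card_fin] at this
    have horb2 : 2 ≤ (orbit H' B).ncard := by
      by_contra hc
      have : B.ncard * (orbit H' B).ncard ≤ B.ncard * 1 := Nat.mul_le_mul_left _ (by omega)
      omega
    have hbp : B.ncard < p := by nlinarith
    have hop : (orbit H' B).ncard < p := by nlinarith
    have hP : IsPGroup p (Subgroup.zpowers g) := IsPGroup.of_card (n := 1) (by rw [Nat.card_zpowers, hg, pow_one])
    let T1 : SubMulAction (Subgroup.zpowers g) (Set (Fin m)) :=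
      { carrier := orbit H' B
        smul_mem' := fun a C hC => by
          obtain ⟨u, rfl⟩ := hC
          exact ⟨(a : H') * u, mul_smul (a : H') u B⟩ }
    have hT1 : Nat.card T1 < p := by
      rw [show Nat.card T1 = Nat.card (orbit H' B) from rfl, Nat.card_coe_set_eq]
      exact hop
    have hfix1 := small_fixed hP T1 hT1
    have hfix : ∀ z : Fin m, (g : H') • z = z := by
      intro z
      obtain ⟨b, hb⟩ := hBne
      obtain ⟨u, rfl⟩ := exists_smul_eq H' b z
      have hC : ∀ a : Subgroup.zpowers g, (a : H') • (u • B) = u • B := fun a => hfix1 a _ ⟨u, rfl⟩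
      let T2 : SubMulAction (Subgroup.zpowers g) (Fin m) :=
        { carrier := u • B
          smul_mem' := fun a w hw => by
            have := Set.smul_mem_smul_set (a := (a : H')) hw
            rwa [hC a] at this }
      have hT2 : Nat.card T2 < p := by
        rw [show Nat.card T2 = Nat.card (u • B : Set (Fin m)) from rfl, Nat.card_coe_set_eq, Set.ncard_smul_set]
        exact hbp
      exact small_fixed hP T2 hT2 ⟨g, Subgroup.mem_zpowers g⟩ _ (Set.smul_mem_smul_set hb)
    have : g = 1 := Subtype.ext (Equiv.ext hfix)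
    rw [this, orderOf_one] at hg
    exact hp.one_lt.ne hg

end Alt

end CfsgLib.AltDerange
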